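import Groth.Agent.HenselConn.BaseChange
import Groth.Agent.HenselConn.Gen
import Groth.Agent.HenselConn.ZeroAcyc
import Groth.Agent.ProperBC13.SetA

/-!
# Base change of direct images along flat morphisms with connected strictly local geometric fibres
-/

set_option autoImplicit false
set_option linter.style.haveILetI false

universe u

open CategoryTheory CategoryTheory.Limits AlgebraicGeometry Opposite IsLocalRing TensorProduct
open Groth.Agent.BigSiteLib.DescSec

namespace Groth.Agent.FlatShConn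

set_option backward.isDefEq.respectTransparency.types false

open HenselConn

/-- A strict localization map of a flat morphism is flat. -/
theorem flat_strictMap {X Y : Scheme.{u}} (g : X ⟶ Y) [Flat g] (x : X) (RY RX : Type u) [CommRing RY] [CommRing RX]
    [IsLocalRing RY] [IsLocalRing RX]
    [Algebra (Y.presheaf.stalk (g.base x)) RY] [IsLocalHom (algebraMap (Y.presheaf.stalk (g.base x)) RY)]
    [Hensel.IsStrictHenselization (Y.presheaf.stalk (g.base x)) RY]
    [Algebra (X.presheaf.stalk x) RX] [IsLocalHom (algebraMap (X.presheaf.stalk x) RX)]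
    [Hensel.IsStrictHenselization (X.presheaf.stalk x) RX]
    [Algebra RY RX]
    (hsq : (algebraMap RY RX).comp (algebraMap (Y.presheaf.stalk (g.base x)) RY) =
      (algebraMap (X.presheaf.stalk x) RX).comp (g.stalkMap x).hom) :
    Flat (Spec.map (CommRingCat.ofHom (algebraMap RY RX))) := by
  let OY := Y.presheaf.stalk (g.base x)
  let OX := X.presheaf.stalk x
  letI : Algebra OY OX := (g.stalkMap x).hom.toAlgebra
  have hgg : Flat (Spec.map (CommRingCat.ofHom (algebraMap OY OX))) :=
    HasRingHomProperty.Spec_iff.2 (Flat.stalkMap g x)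
  letI : Algebra (OX ⊗[OY] OY) RX :=
    ((algebraMap OX RX).comp (Algebra.TensorProduct.rid OY OY OX).toAlgHom.toRingHom).toAlgebra
  haveI : Module.Flat (OX ⊗[OY] OY) RX := by
    haveI := flat_strict OX RX
    exact RingHom.flat_algebraMap_iff.1
      ((RingHom.Flat.of_bijective (Algebra.TensorProduct.rid OY OY OX).bijective).comp (RingHom.flat_algebraMap_iff.2 ‹_›))
  letI : Algebra OY RX := ((algebraMap RY RX).comp (algebraMap OY RY)).toAlgebra
  let σ : OX ⊗[OY] RY →+* RX :=
    (Algebra.TensorProduct.lift ({ algebraMap OX RX with commutes' := fun r => (RingHom.congr_fun hsq r).symm } : OX →ₐ[OY] RX)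
      ({ algebraMap RY RX with commutes' := fun _ => rfl } : RY →ₐ[OY] RX) fun _ _ => Commute.all _ _).toRingHom
  have hσ : ∀ a y, σ (a ⊗ₜ[OY] y) = algebraMap OX RX a * algebraMap RY RX y := fun a y =>
    Algebra.TensorProduct.lift_tmul _ _ _ a y
  letI : Algebra (OX ⊗[OY] RY) RX := σ.toAlgebra
  haveI : Module.Flat (OX ⊗[OY] RY) RX := flat_bc RX (hasEtLift_strict OY RY) fun z => by
    induction z using TensorProduct.induction_on with
    | zero => rw [map_zero, map_zero, map_zero]
    | add a b ha hb => rw [map_add, map_add, map_add, ha, hb]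
    | tmul a r =>
      rw [Algebra.TensorProduct.map_tmul]
      show σ (a ⊗ₜ[OY] algebraMap OY RY r) = algebraMap OX RX (Algebra.TensorProduct.rid OY OY OX (a ⊗ₜ r))
      rw [hσ, Algebra.TensorProduct.rid_tmul, Algebra.smul_def, map_mul, mul_comm, ← RingHom.comp_apply, hsq]
      rfl
  let ι : RY →+* OX ⊗[OY] RY := (Algebra.TensorProduct.includeRight : RY →ₐ[OY] OX ⊗[OY] RY).toRingHom
  have hfac : Spec.map (CommRingCat.ofHom (algebraMap RY RX)) = Spec.map (CommRingCat.ofHom σ) ≫ Spec.map (CommRingCat.ofHom ι) := by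
    rw [← Spec.map_comp, ← CommRingCat.ofHom_comp]
    congr 2
    refine RingHom.ext fun y => ?_
    show _ = σ ((1 : OX) ⊗ₜ[OY] y)
    rw [hσ, map_one, one_mul]
  rw [hfac]
  haveI : Flat (Spec.map (CommRingCat.ofHom σ)) :=
    (HasRingHomProperty.Spec_iff (P := @Flat)).2 (RingHom.flat_algebraMap_iff.2 (inferInstance : Module.Flat (OX ⊗[OY] RY) RX))
  haveI : Flat (Spec.map (CommRingCat.ofHom ι)) := MorphismProperty.of_isPullback (P := @Flat)
    (isPullback_SpecMap_of_isPushout _ _ _ _ (CommRingCat.isPushout_tensorProduct OY OX RY)) hgg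
  infer_instance

/-- The hypothesis of connected strictly local geometric fibres. -/
def HasShConnectedFibres {X S : Scheme.{u}} (f : X ⟶ S) : Prop :=
  ∀ (x : X) (RS : Type u) [CommRing RS] [IsLocalRing RS] [Algebra (S.presheaf.stalk (f.base x)) RS]
      [IsLocalHom (algebraMap (S.presheaf.stalk (f.base x)) RS)]
      [Hensel.IsStrictHenselization (S.presheaf.stalk (f.base x)) RS]
      (RX : Type u) [CommRing RX] [IsLocalRing RX] [Algebra (X.presheaf.stalk x) RX]
      [IsLocalHom (algebraMap (X.presheaf.stalk x) RX)] [Hensel.IsStrictHenselization (X.presheaf.stalk x) RX]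
      (ψ : RS →+* RX) [IsLocalHom ψ],
      ψ.comp (algebraMap (S.presheaf.stalk (f.base x)) RS) = (algebraMap (X.presheaf.stalk x) RX).comp (f.stalkMap x).hom →
      ∀ (Ω : Type u) [Field Ω] [IsAlgClosed Ω] (η : Spec (CommRingCat.of Ω) ⟶ Spec (CommRingCat.of RS)),
        ConnectedSpace ↥(pullback (Spec.map (CommRingCat.ofHom ψ)) η)

/-- The map of strict localizations along a flat morphism with connected strictly local geometric fibres. -/
theorem exists_strict_map_connected {Y Y' : Scheme.{u}} (g : Y' ⟶ Y) [Flat g] (hconn : HasShConnectedFibres g) (y' : Y') :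
    ∃ φ : Hensel.StrictHenz (Y.presheaf.stalk (g y')) →+* Hensel.StrictHenz (Y'.presheaf.stalk y'),
      IsLocalHom φ ∧
      Hens2.specOf Y' y' (Hensel.StrictHenz (Y'.presheaf.stalk y')) ≫ g =
        Spec.map (CommRingCat.ofHom φ) ≫ Hens2.specOf Y (g y') (Hensel.StrictHenz (Y.presheaf.stalk (g y'))) ∧
      EtDesc.IsUnivSubmersive (Spec.map (CommRingCat.ofHom φ)) ∧
      ∀ (Ω : Type u) [Field Ω] [IsAlgClosed Ω] (s : Spec (CommRingCat.of Ω) ⟶ Spec (CommRingCat.of (Hensel.StrictHenz (Y.presheaf.stalk (g y'))))),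
        ConnectedSpace ↥(pullback (Spec.map (CommRingCat.ofHom φ)) s) := by
  let OY := Y.presheaf.stalk (g y')
  let OX := Y'.presheaf.stalk y'
  let RY := Hensel.StrictHenz OY
  let RX := Hensel.StrictHenz OX
  haveI : Algebra.IsSeparable (ResidueField OY) (ResidueField RY) :=
    (Hensel.IsStrictHenselization.isSepClosure (R := OY) (S := RY)).separable
  haveI : IsSepClosed (ResidueField RX) :=
    (Hensel.IsStrictHenselization.isSepClosure (R := OX) (S := RX)).sep_closed
  let f₀ : OY →+* RX := (algebraMap OX RX).comp (g.stalkMap y').hom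
  haveI : IsLocalHom f₀ := RingHom.isLocalHom_comp _ _
  letI : Algebra (ResidueField OY) (ResidueField RX) := (ResidueField.map f₀).toAlgebra
  let τa : ResidueField RY →ₐ[ResidueField OY] ResidueField RX := IsSepClosed.lift
  obtain ⟨φ, ⟨hφ, hφr⟩, -⟩ := Hensel.IsStrictHenselization.universal (R := OY) (S := RY) RX f₀ τa.toRingHom
    (RingHom.ext τa.commutes)
  letI : Algebra RY RX := φ.toAlgebra
  haveI hl : IsLocalHom (algebraMap RY RX) := ⟨fun r hr => by
    by_contra hn
    have h0 : residue RX (φ r) = 0 := by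
      rw [hφr, (residue_eq_zero_iff r).mpr hn, map_zero]
    exact ((residue_eq_zero_iff _).1 h0) hr⟩
  haveI : Flat (Spec.map (CommRingCat.ofHom φ)) := flat_strictMap g y' RY RX hφ
  haveI : Surjective (Spec.map (CommRingCat.ofHom φ)) := by
    haveI : Module.Flat RY RX := RingHom.flat_algebraMap_iff.1
      ((HasRingHomProperty.Spec_iff (P := @Flat)).1 ‹Flat (Spec.map (CommRingCat.ofHom φ))›)
    haveI : Module.FaithfullyFlat RY RX := Module.FaithfullyFlat.of_flat_of_isLocalHom
    exact ⟨fun p => PrimeSpectrum.comap_surjective_of_faithfullyFlat (B := RX) p⟩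
  exact ⟨φ, hl, specOf_comp g y' RY RX hφ, HenselConn.isUnivSubmersive_of_flat _,
    fun Ω _ _ s => hconn y' RY RX φ hφ Ω s⟩

variable {X Y X' Y' : Scheme.{u}} (f : X ⟶ Y) (g : Y' ⟶ Y) (f' : X' ⟶ Y') (g' : X' ⟶ X) (H : IsPullback g' f' f g)
  [QuasiCompact f] [QuasiSeparated f] [Flat g] (hconn : HasShConnectedFibres g) (F : EtDesc.Sh X)

include hconn H

theorem injective_local {V : Y.Etale} {Z : Y'.Etale} (c : Z ⟶ (EtCoh.bc g).obj V)
    (a b : F.obj.obj (op ((EtCoh.bc f).obj V)))
    (e : trA f g f' g' H.w F c a = trA f g f' g' H.w F c b) (z : Z.left) :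
    LocEq ((EtDesc.pullSh g).obj ((EtDesc.pushSh f).obj F)).obj
      (((EtDesc.pullSh g).obj ((EtDesc.pushSh f).obj F)).obj.map c.op (up g ((EtDesc.pushSh f).obj F) V a))
      (((EtDesc.pullSh g).obj ((EtDesc.pushSh f).obj F)).obj.map c.op (up g ((EtDesc.pushSh f).obj F) V b)) z := by
  obtain ⟨y', hy'⟩ : ∃ y' : Y', Z.hom z = y' := ⟨_, rfl⟩
  obtain ⟨φ, hφl, hπ, hUS, hc⟩ := exists_strict_map_connected g hconn y'
  haveI := flat_specOf (g y') (Hensel.StrictHenz (Y.presheaf.stalk (g y')))
  obtain ⟨ρ', hρ'⟩ := exists_lift_point y' (Hensel.StrictHenz (Y'.presheaf.stalk y')) Z z hy'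
  haveI := hφl
  obtain ⟨ρ, hρ⟩ := exists_lift_comp (g y') (Hensel.StrictHenz (Y.presheaf.stalk (g y'))) φ V
    (ρ'.1 ≫ c.left ≫ pullback.fst V.hom g) (by
      refine Eq.trans ?_ hπ
      refine Eq.trans ?_ (congrArg (· ≫ g) ρ'.2)
      refine (Category.assoc _ _ _).trans ?_
      refine Eq.trans (congrArg (ρ'.1 ≫ ·) ?_) (Category.assoc _ _ _).symm
      refine (Category.assoc _ _ _).trans ((congrArg (c.left ≫ ·) (pullback.condition (f := V.hom) (g := g))).trans ?_)
      exact (Category.assoc _ _ _).symm.trans (congrArg (· ≫ g) (MorphismProperty.Over.w c)))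
  rw [← hρ']
  exact injective_at f g f' g' H F _ _ _ hπ
    (fun G => (secPull_limMap_bijective f g f' g' H _ _ _ hπ hUS hc G).1) c ρ ρ' hρ.symm a b e _

theorem surjective_local (Z : Y'.Etale) (t : ((EtDesc.pullSh g').obj F).obj.obj (op ((EtCoh.bc f').obj Z))) (z : Z.left) :
    ∃ (Z' : Y'.Etale) (k : Z' ⟶ Z) (a : ((EtDesc.pullSh g).obj ((EtDesc.pushSh f).obj F)).obj.obj (op Z')),
      z ∈ Set.range k.left ∧ (EtBC.baseChange0Sh f g f' g' H.w F).hom.app (op Z') a =
        ((EtDesc.pullSh g').obj F).obj.map ((EtCoh.bc f').map k).op t := by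
  obtain ⟨y', hy'⟩ : ∃ y' : Y', Z.hom z = y' := ⟨_, rfl⟩
  obtain ⟨φ, hφl, hπ, hUS, hc⟩ := exists_strict_map_connected g hconn y'
  haveI := flat_specOf (g y') (Hensel.StrictHenz (Y.presheaf.stalk (g y')))
  haveI := flat_specOf y' (Hensel.StrictHenz (Y'.presheaf.stalk y'))
  obtain ⟨ρ', hρ'⟩ := exists_lift_point y' (Hensel.StrictHenz (Y'.presheaf.stalk y')) Z z hy'
  rw [← hρ']
  exact surjective_at f g f' g' H F _ _ _ hπ (hasBasis_specOf _ _)
    (fun G => (secPull_limMap_bijective f g f' g' H _ _ _ hπ hUS hc G).2) Z t ρ' _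

/-- Base change of direct images of sheaves of sets along flat morphisms with connected strictly local geometric fibres. -/
theorem isIso_baseChange0Sh_of_connected : IsIso (EtBC.baseChange0Sh f g f' g' H.w F) := by
  let G := (EtDesc.pushSh f).obj F
  refine isIso_of_local _ (fun W s₁ s₂ e w => ?_) (fun W t w => ?_)
  · obtain ⟨V₁, a₁, Z₁, c₁, k₁, z₁, hz₁, he₁⟩ := exists_up_eq_any g G W s₁ w
    obtain ⟨V₂, a₂, Z₂, c₂, k₂, z₂, hz₂, he₂⟩ :=
      exists_up_eq_any g G Z₁ (((EtDesc.pullSh g).obj G).obj.map k₁.op s₂) z₁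
    haveI : Etale V₁.hom := V₁.prop
    haveI : Etale V₂.hom := V₂.prop
    let V : Y.Etale := MorphismProperty.Over.mk ⊤ (pullback.fst V₁.hom V₂.hom ≫ V₁.hom) (by
      haveI : Etale (pullback.fst V₁.hom V₂.hom) := MorphismProperty.pullback_fst _ _ inferInstance
      exact inferInstanceAs (Etale (pullback.fst V₁.hom V₂.hom ≫ V₁.hom)))
    let m₁ : V ⟶ V₁ := MorphismProperty.Over.homMk (pullback.fst V₁.hom V₂.hom) rfl
    let m₂ : V ⟶ V₂ := MorphismProperty.Over.homMk (pullback.snd V₁.hom V₂.hom) pullback.condition.symm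
    obtain ⟨c, hc₁, hc₂⟩ := exists_pair_hom g m₁ m₂ (k₂ ≫ c₁) c₂ (IsPullback.of_hasPullback V₁.hom V₂.hom)
    have f₁ : ((EtDesc.pullSh g).obj G).obj.map c.op (up g G V (G.obj.map m₁.op a₁)) =
        ((EtDesc.pullSh g).obj G).obj.map (k₂ ≫ k₁).op s₁ := by
      rw [up_map, mapF, hc₁, ← mapF, he₁, mapF]
    have f₂ : ((EtDesc.pullSh g).obj G).obj.map c.op (up g G V (G.obj.map m₂.op a₂)) =
        ((EtDesc.pullSh g).obj G).obj.map (k₂ ≫ k₁).op s₂ := by
      rw [up_map, mapF, hc₂, he₂, mapF]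
    have hloc := injective_local f g f' g' H hconn F c (G.obj.map m₁.op a₁) (G.obj.map m₂.op a₂) (by
      rw [← baseChange_up f g f' g' H.w F c, ← baseChange_up f g f' g' H.w F c, f₁, f₂, NatTrans.naturality_apply,
        NatTrans.naturality_apply, e]) z₂
    rw [f₁, f₂] at hloc
    have := LocEq.of_map (k₂ ≫ k₁) hloc
    rwa [show (k₂ ≫ k₁).left z₂ = w from (Scheme.Hom.comp_apply _ _ _).trans ((congrArg k₁.left hz₂).trans hz₁)] at this
  · exact surjective_local f g f' g' H hconn F W t w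

/-- Base change for abelian sheaves in degree zero, for any map with the unit property. -/
theorem isIso_of_unit (F : EtCoh.Ab X)
    (β : (EtCoh.pull g).obj ((EtCoh.push f).obj F) ⟶ (EtCoh.push f').obj ((EtCoh.pull g').obj F))
    (hβ : ∀ V : Y.Etale,
      ((EtCoh.pullPushAdj g).unit.app ((EtCoh.push f).obj F)).hom.app (op V) ≫ β.hom.app (op ((EtCoh.bc g).obj V)) =
        ((EtCoh.pullPushAdj g').unit.app F).hom.app (op ((EtCoh.bc f).obj V)) ≫
          ((EtCoh.pull g').obj F).obj.map (EtFound.bcSquare H.w V).op) : IsIso β := by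
  haveI := isIso_baseChange0Sh_of_connected f g f' g' H hconn (ProperBC13.setA F)
  haveI := ProperBC13.isIso_cmpF g ((EtCoh.push f).obj F)
  haveI := ProperBC13.isIso_cmpF g' F
  haveI : IsIso ((sheafCompose Y'.smallEtaleTopology (CategoryTheory.forget AddCommGrpCat.{u + 1})).map β) := by
    haveI : IsIso (ProperBC13.cmpF g ((EtCoh.push f).obj F) ≫
        (sheafCompose Y'.smallEtaleTopology (CategoryTheory.forget AddCommGrpCat.{u + 1})).map β) := by
      rw [ProperBC13.setA_eq_baseChange0Sh f g f' g' H F β hβ]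
      haveI : IsIso ((EtDesc.pushSh f').map (ProperBC13.cmpF g' F)) := Functor.map_isIso _ _
      exact IsIso.comp_isIso' ‹_› ‹_›
    exact IsIso.of_isIso_comp_left (ProperBC13.cmpF g ((EtCoh.push f).obj F)) _
  exact isIso_of_reflects_iso β (sheafCompose Y'.smallEtaleTopology (CategoryTheory.forget AddCommGrpCat.{u + 1}))

end Groth.Agent.FlatShConn
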